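import Mathlib
import Groth.Prelude.Def_SGA4a
import Groth.Agent.ShYonLib.Basic
import Groth.Agent.EquivRelSh.Basic

set_option backward.isDefEq.respectTransparency false
set_option backward.isDefEq.respectTransparency.types false
set_option linter.style.haveILetI false
set_option autoImplicit false

universe u

open CategoryTheory Category Limits Opposite

namespace Groth.Agent.CanonEquivRel

variable {C : Type u} [SmallCategory C]

noncomputable abbrev ε : C ⥤ Sheaf (Sheaf.canonicalTopology C) (Type u) :=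
  yoneda ⋙ presheafToSheaf (Sheaf.canonicalTopology C) (Type u)

noncomputable def εIso : (ε (C := C)) ≅ (Sheaf.canonicalTopology C).yoneda :=
  NatIso.ofComponents (fun X => asIso ((sheafificationAdjunction _ (Type u)).counit.app ((Sheaf.canonicalTopology C).yoneda.obj X)))
    (fun {X Y} f => (sheafificationAdjunction _ (Type u)).counit_naturality ((Sheaf.canonicalTopology C).yoneda.map f))

instance : (ε (C := C)).Full := Functor.Full.of_iso εIso.symm
instance : (ε (C := C)).Faithful := Functor.Faithful.of_iso εIso.symm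

theorem effectiveEpi_of_epi_map [HasPullbacks C] {P Z : C} (s : P ⟶ Z) [Epi (ε.map s)] : EffectiveEpi s := by
  haveI := IsRegularEpiCategory.regularEpiOfEpi (ε.map s)
  haveI hs : EffectiveEpi (ε.map s) := inferInstance
  have key : ∀ {W : C} (e : P ⟶ W), (∀ {Y : C} (g₁ g₂ : Y ⟶ P), g₁ ≫ s = g₂ ≫ s → g₁ ≫ e = g₂ ≫ e) →
      ∀ {G : Sheaf (Sheaf.canonicalTopology C) (Type u)} (g₁ g₂ : G ⟶ ε.obj P),
        g₁ ≫ ε.map s = g₂ ≫ ε.map s → g₁ ≫ ε.map e = g₂ ≫ ε.map e := by
    intro W e he G g₁ g₂ hg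
    have hk := (IsPullback.of_hasPullback s s).map (ε (C := C))
    rw [← hk.lift_fst g₁ g₂ hg]
    conv_rhs => rw [← hk.lift_snd g₁ g₂ hg]
    simp only [Category.assoc, ← Functor.map_comp, he _ _ pullback.condition]
  refine ⟨⟨{ desc := fun {W} e he => ε.preimage (EffectiveEpi.desc (ε.map s) (ε.map e) (key e he))
             fac := fun {W} e he => ?_
             uniq := fun {W} e he m hm => ?_ }⟩⟩
  · apply (ε (C := C)).map_injective
    rw [Functor.map_comp, Functor.map_preimage, EffectiveEpi.fac]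
  · apply (ε (C := C)).map_injective
    rw [Functor.map_preimage]
    exact EffectiveEpi.uniq (ε.map s) _ _ _ (by rw [← Functor.map_comp, hm])

theorem generate_mem [HasPullbacks C] {X B : C} (π : X ⟶ B)
    (h : ∀ (B' : C) (g : B' ⟶ B), EffectiveEpi (pullback.snd π g)) :
    Sieve.generate (Presieve.singleton π) ∈ Sheaf.canonicalTopology C B := by
  apply Sheaf.mem_finestTopology_of_forall_isSheafFor
  rintro _ ⟨W, rfl⟩ Y f
  have he : (Sieve.generate (Presieve.singleton π)).pullback f =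
      Sieve.generate (Presieve.singleton (pullback.snd π f)) := by
    ext Z k
    constructor
    · rintro ⟨_, g, _, ⟨⟩, hg⟩
      exact ⟨_, pullback.lift g k hg, _, ⟨⟩, pullback.lift_snd _ _ _⟩
    · rintro ⟨_, g, _, ⟨⟩, rfl⟩
      exact ⟨_, g ≫ pullback.fst π f, _, ⟨⟩, by simp [pullback.condition]⟩
  rw [he, ← Presieve.isSheafFor_iff_generate]
  haveI := h Y f
  exact Presieve.IsSheafFor.singleton_of_isRepresentable_of_effectiveEpi _ _

theorem main [HasPullbacks C] {R X : C} (p₁ p₂ : R ⟶ X) (hR : SGA4.IsEquivRel p₁ p₂) (c : Cofork p₁ p₂) (hc : IsColimit c) :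
    SGA4.IsEffectiveUniversalEquivRel p₁ p₂ ↔ Nonempty (IsColimit ((ε (C := C)).mapCocone c)) := by
  obtain ⟨r, hr₁, hr₂⟩ := (hR X).2.refl (𝟙 X)
  constructor
  · rintro ⟨B, π, hk, hp, hu⟩
    let i := hc.uniqueUpToIso hp.isLimitFork
    refine ⟨IsColimit.ofIsoColimit ?_ ((Cocone.functoriality _ ε).mapIso i).symm⟩
    refine (isColimitMapCoconeCoforkEquiv ε hp.w).symm ?_
    refine Cofork.IsColimit.ofExistsUnique fun s => ?_
    let x := Groth.Agent.ShYonLib.yEquiv X s.pt s.π
    have hx : ∀ {Z : C} (g₁ g₂ : Z ⟶ X), g₁ ≫ π = g₂ ≫ π → s.pt.obj.map g₁.op x = s.pt.obj.map g₂.op x := by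
      intro Z g₁ g₂ hg
      rw [Groth.Agent.ShYonLib.yEquiv_nat, Groth.Agent.ShYonLib.yEquiv_nat]
      congr 1
      rw [← hk.lift_fst g₁ g₂ hg]
      conv_rhs => rw [← hk.lift_snd g₁ g₂ hg]
      change ε.map _ ≫ _ = ε.map _ ≫ _
      rw [Functor.map_comp, Functor.map_comp, Category.assoc, Category.assoc, s.condition]
    have hs : Presieve.IsSheafFor s.pt.obj (Presieve.singleton π) := by
      rw [Presieve.isSheafFor_iff_generate]
      exact (isSheaf_iff_isSheaf_of_type _ _).1 s.pt.property _ (generate_mem π hu)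
    obtain ⟨y, hy, hyu⟩ := Presieve.isSheafFor_singleton.1 hs x hx
    refine ⟨(Groth.Agent.ShYonLib.yEquiv B s.pt).symm y, ?_, fun d hd => ?_⟩
    · apply (Groth.Agent.ShYonLib.yEquiv X s.pt).injective
      refine (Groth.Agent.ShYonLib.yEquiv_nat _ _).symm.trans ?_
      rw [Equiv.apply_symm_apply]
      exact hy
    · refine (Equiv.eq_symm_apply _).2 (hyu _ ?_)
      refine (Groth.Agent.ShYonLib.yEquiv_nat _ _).trans ?_
      exact congrArg _ hd
  · rintro ⟨hcol⟩
    let q₁ := yoneda.map p₁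
    let q₂ := yoneda.map p₂
    have hQ : IsPullback q₁ q₂ (EquivRelSh.quotπ q₁ q₂) (EquivRelSh.quotπ q₁ q₂) := by
      refine IsPullback.of_forall_isPullback_app fun Z => ?_
      rw [Limits.Types.isPullback_iff]
      refine ⟨congrArg (fun α : yoneda.obj R ⟶ _ => α.app Z) (EquivRelSh.quot_w (p₁ := q₁) (p₂ := q₂)), ?_, ?_⟩
      · intro a b hab
        exact (hR Z.unop).1 (Prod.ext hab.1 hab.2)
      · intro a b hab
        obtain ⟨f, hf₁, hf₂⟩ := (hR Z.unop).2.eqvGen_iff.1 (Quot.eqvGen_exact hab)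
        exact ⟨f, hf₁, hf₂⟩
    have hQ' := hQ.map (presheafToSheaf (Sheaf.canonicalTopology C) (Type u))
    have hw0 : ε.map p₁ ≫ ε.map c.π = ε.map p₂ ≫ ε.map c.π :=
      ((ε (C := C)).map_comp _ _).symm.trans ((congrArg ε.map c.condition).trans ((ε (C := C)).map_comp _ _))
    have hcl : IsColimit (Cofork.ofπ (ε.map c.π) hw0) :=
      isColimitMapCoconeCoforkEquiv ε c.condition
        (IsColimit.ofIsoColimit hcol ((Cocone.functoriality _ ε).mapIso (Cofork.isoCoforkOfπ c)))
    have hk : IsPullback (ε.map p₁) (ε.map p₂) (ε.map c.π) (ε.map c.π) := by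
      obtain ⟨d, hd⟩ := Cofork.IsColimit.desc' hcl ((presheafToSheaf _ (Type u)).map (EquivRelSh.quotπ q₁ q₂)) hQ'.w
      have hw := hw0
      rw [← show ε.map c.π ≫ d = _ from hd] at hQ'
      exact ⟨⟨hw⟩, ⟨PullbackCone.IsLimit.mk _ (fun s => hQ'.lift s.fst s.snd (by rw [← Category.assoc, s.condition, Category.assoc]))
        (fun s => hQ'.lift_fst _ _ _) (fun s => hQ'.lift_snd _ _ _)
        (fun s m h₁ h₂ => hQ'.hom_ext (h₁.trans (hQ'.lift_fst _ _ _).symm) (h₂.trans (hQ'.lift_snd _ _ _).symm))⟩⟩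
    haveI : Epi (ε.map c.π) := ⟨fun a b h => Cofork.IsColimit.hom_ext hcl h⟩
    refine ⟨c.pt, c.π, IsPullback.of_map ε c.condition hk, ⟨⟨c.condition⟩, ⟨?_⟩⟩, fun B' g => ?_⟩
    · have key : ∀ s : PushoutCocone p₁ p₂, s.inl = s.inr := fun s => by
        have h := r ≫= s.condition
        rwa [← Category.assoc, ← Category.assoc, hr₁, hr₂, Category.id_comp, Category.id_comp] at h
      refine PushoutCocone.IsColimit.mk _ (fun s => hc.desc (Cofork.ofπ s.inl (s.condition.trans (by rw [key s]))))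
        (fun s => Cofork.IsColimit.π_desc hc) (fun s => (Cofork.IsColimit.π_desc hc).trans (key s))
        (fun s m h₁ _ => Cofork.IsColimit.hom_ext hc (by rw [Cofork.IsColimit.π_desc hc]; exact h₁))
    · haveI := EquivRelSh.epi_of_isPullback_sheaf _ ((IsPullback.of_hasPullback c.π g).map ε)
      exact effectiveEpi_of_epi_map _

end Groth.Agent.CanonEquivRel
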